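import Mathlib
import Groth.Agent.LocalCrit.Artinian

/-!
# The flattening ideal over an artinian ring
-/

set_option autoImplicit false
set_option linter.style.haveILetI false

universe u

namespace Groth.Agent.FlatArt

open TensorProduct

theorem exists_flattening {A : Type u} [CommRing A] [IsArtinianRing A] (N : Type u) [AddCommGroup N] [Module A N] :
    ∃ I : Ideal A, ∀ (A' : Type u) [CommRing A'] [Algebra A A'],
      Module.Flat A' (A' ⊗[A] N) ↔ I.map (algebraMap A A') = ⊥ := by
  let J : Ideal A := Ring.jacobson A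
  have hJ : IsNilpotent J := by
    have h := IsArtinianRing.isNilpotent_jacobson_bot (R := A)
    rwa [Ideal.jacobson_bot] at h
  haveI : IsSemisimpleRing (A ⧸ J) := inferInstance
  obtain ⟨P, _, _, π, hP, hπs, hπk⟩ := LocalCrit.exists_projective_cover J hJ N
  refine ⟨Ideal.span {a | ∃ (φ : P →ₗ[A] A) (x : P), x ∈ LinearMap.ker π ∧ φ x = a}, fun A' _ _ => ?_⟩
  obtain ⟨n, hn⟩ := hJ
  let K := LinearMap.ker π
  let T : Submodule A' (A' ⊗[A] P) := LinearMap.range (K.subtype.baseChange A')
  let πA' := π.baseChange A'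
  have hs : Function.Surjective πA' := by
    intro y
    obtain ⟨z, hz⟩ := LinearMap.lTensor_surjective A' hπs y
    exact ⟨z, (congrFun (LinearMap.baseChange_eq_ltensor π) z).trans hz⟩
  have hex : Function.Exact T.subtype πA' :=
    LocalCrit.baseChange_exact K.subtype π (LinearMap.exact_subtype_ker_map π) hπs
  have hT : T = ⊥ ↔ (Ideal.span {a | ∃ (φ : P →ₗ[A] A) (x : P), x ∈ LinearMap.ker π ∧ φ x = a}).map (algebraMap A A') = ⊥ := by
    rw [Ideal.map_span, Ideal.span_eq_bot]
    constructor
    · rintro h _ ⟨_, ⟨φ, x, hx, rfl⟩, rfl⟩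
      have h1 : (1 : A') ⊗ₜ[A] x ∈ T := ⟨(1 : A') ⊗ₜ[A] (⟨x, hx⟩ : K), by rw [LinearMap.baseChange_tmul]; rfl⟩
      rw [h, Submodule.mem_bot] at h1
      have h2 := congrArg (fun z => TensorProduct.rid A A' (φ.lTensor A' z)) h1
      simpa [Algebra.smul_def] using h2
    · intro h
      obtain ⟨s, hsurj, hs'⟩ : ∃ (s : P →ₗ[A] (P →₀ A)) (r : (P →₀ A) →ₗ[A] P), r.comp s = LinearMap.id := by
        obtain ⟨s, hs⟩ := Module.projective_lifting_property (Finsupp.linearCombination A (id : P → P)) LinearMap.id
          fun m => ⟨Finsupp.single m 1, (Finsupp.linearCombination_single A (1 : A) m).trans (one_smul A m)⟩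
        exact ⟨s, _, hs⟩
      rw [eq_bot_iff]
      rintro _ ⟨w, rfl⟩
      rw [Submodule.mem_bot]
      induction w using TensorProduct.induction_on with
      | zero => exact map_zero _
      | add x y hx hy => rw [map_add, hx, hy, add_zero]
      | tmul a x =>
        rw [LinearMap.baseChange_tmul, Submodule.subtype_apply]
        have hx : (x : P) = hsurj (s x) := (LinearMap.congr_fun hs' x).symm
        rw [hx, ← Finsupp.sum_single (s x), map_finsuppSum, Finsupp.sum, TensorProduct.tmul_sum]
        refine Finset.sum_eq_zero fun i _ => ?_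
        rw [← Finsupp.smul_single_one i, map_smul, ← TensorProduct.smul_tmul, Algebra.smul_def,
          h _ ⟨s x i, ⟨(Finsupp.lapply i).comp s, x, x.2, rfl⟩, rfl⟩, zero_mul, TensorProduct.zero_tmul]
  rw [← hT]
  constructor
  · intro hflat
    refine LocalCrit.eq_bot_of_flat_quotient (J.map (algebraMap A A')) n (by rw [← Ideal.map_pow, hn, Ideal.zero_eq_bot, Ideal.map_bot, Ideal.zero_eq_bot]) T πA' hs hex ?_
    rintro _ ⟨w, rfl⟩
    induction w using TensorProduct.induction_on with
    | zero => rw [map_zero]; exact zero_mem _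
    | add x y hx hy => rw [map_add]; exact add_mem hx hy
    | tmul a x =>
      rw [LinearMap.baseChange_tmul, Submodule.subtype_apply]
      have hx := hπk x.2
      refine Submodule.smul_induction_on hx (fun j hj p _ => ?_) fun u v hu hv => ?_
      · rw [TensorProduct.tmul_smul, ← algebraMap_smul A' j]
        exact Submodule.smul_mem_smul (Ideal.mem_map_of_mem _ hj) trivial
      · rw [TensorProduct.tmul_add]
        exact add_mem hu hv
  · intro h
    have hinj : Function.Injective πA' := (injective_iff_map_eq_zero _).mpr fun z hz => by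
      obtain ⟨w, hw⟩ := (hex z).mp hz
      have h2 : (w : A' ⊗[A] P) = 0 := (Submodule.eq_bot_iff T).mp h _ w.2
      exact hw.symm.trans h2
    exact Module.Flat.of_linearEquiv (LinearEquiv.ofBijective πA' ⟨hinj, hs⟩).symm

end Groth.Agent.FlatArt
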